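import Cfsg.Agent.Lib.PGroup.Regular

/-!
# Regular p-groups: power equations (helper76)

* `commutator_closure_le`: the derived subgroup of a two-generated subgroup lies in an invariant
  subgroup containing the commutator of the generators
* `mul_pow_eq_one`: the elements killed by `p ^ n` form a subgroup
* `pow_eq_iff`: `a ^ q = b ^ q ↔ (a * b⁻¹) ^ q = 1`
-/

set_option autoImplicit false
set_option linter.style.haveILetI false

open Subgroup
open scoped commutatorElement

namespace Cfsg.Agent.RegularP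

variable {G : Type*} [Group G]

theorem commutator_closure_le {S : Subgroup G} {a b : G}
    (hS : ∀ h ∈ closure ({a, b} : Set G), ∀ s ∈ S, h * s * h⁻¹ ∈ S) (hab : ⁅a, b⁆ ∈ S) :
    ⁅closure ({a, b} : Set G), closure ({a, b} : Set G)⁆ ≤ S := by
  set H := closure ({a, b} : Set G)
  have ha : a ∈ H := subset_closure (by simp)
  have hb : b ∈ H := subset_closure (by simp)
  -- a fixed left entry
  have right : ∀ u ∈ H, ⁅u, a⁆ ∈ S → ⁅u, b⁆ ∈ S → ∀ k ∈ H, ⁅u, k⁆ ∈ S := by
    intro u hu h1 h2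
    let C : Subgroup G :=
      { carrier := {k | k ∈ H ∧ ⁅u, k⁆ ∈ S}
        one_mem' := ⟨one_mem H, by rw [commutatorElement_one_right]; exact one_mem S⟩
        mul_mem' := fun {x y} hx hy => ⟨mul_mem hx.1 hy.1, by
          rw [show ⁅u, x * y⁆ = ⁅u, x⁆ * (x * ⁅u, y⁆ * x⁻¹) by simp [commutatorElement_def, mul_assoc]]
          exact mul_mem hx.2 (hS x hx.1 _ hy.2)⟩
        inv_mem' := fun {x} hx => ⟨inv_mem hx.1, by
          rw [show ⁅u, x⁻¹⁆ = x⁻¹ * ⁅u, x⁆⁻¹ * x⁻¹⁻¹ by simp [commutatorElement_def, mul_assoc]]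
          exact hS _ (inv_mem hx.1) _ (inv_mem hx.2)⟩ }
    have : H ≤ C := (closure_le C).mpr (by
      rintro z (rfl | rfl)
      · exact ⟨ha, h1⟩
      · exact ⟨hb, h2⟩)
    exact fun k hk => (this hk).2
  let C : Subgroup G :=
    { carrier := {u | u ∈ H ∧ ∀ k ∈ H, ⁅u, k⁆ ∈ S}
      one_mem' := ⟨one_mem H, fun k _ => by rw [commutatorElement_one_left]; exact one_mem S⟩
      mul_mem' := fun {x y} hx hy => ⟨mul_mem hx.1 hy.1, fun k hk => by
        rw [commutatorElement_mul_left_eq_conj_mul]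
        exact mul_mem (hS x hx.1 _ (hy.2 k hk)) (hx.2 k hk)⟩
      inv_mem' := fun {x} hx => ⟨inv_mem hx.1, fun k hk => by
        rw [show ⁅x⁻¹, k⁆ = x⁻¹ * ⁅x, k⁆⁻¹ * x⁻¹⁻¹ by simp [commutatorElement_def, mul_assoc]]
        exact hS _ (inv_mem hx.1) _ (inv_mem (hx.2 k hk))⟩ }
  have hC : H ≤ C := (closure_le C).mpr (by
    have hba : ⁅b, a⁆ ∈ S := by rw [← commutatorElement_inv]; exact inv_mem hab
    rintro z (rfl | rfl)
    · exact ⟨ha, right _ ha (by rw [commutatorElement_self]; exact one_mem S) hab⟩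
    · exact ⟨hb, right _ hb hba (by rw [commutatorElement_self]; exact one_mem S)⟩)
  exact commutator_le.mpr fun x hx y hy => (hC hx).2 y hy

variable {p : ℕ} [Fact p.Prime] [Finite G]

/-- In a non-cyclic two-generated `p`-subgroup an element together with the derived subgroup is proper. -/
theorem zpowers_sup_commutator_lt (hG : IsPGroup p G) {H : Subgroup G} {x : G} (hx : x ∈ H) (hc : ¬ IsCyclic H) :
    zpowers x ⊔ ⁅H, H⁆ < H := by
  refine lt_of_le_of_ne (sup_le (zpowers_le.mpr hx) (commutator_le_self H)) fun hK => hc ?_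
  refine PGroup.isCyclic_of_sup_frattini (x := (⟨x, hx⟩ : H)) ?_
  rw [eq_top_iff]
  refine le_trans ?_ (sup_le_sup_left (PGroup.commutator_le_frattini (hG.to_subgroup H)) _)
  refine le_of_eq (map_injective H.subtype_injective ?_)
  rw [Subgroup.map_sup, MonoidHom.map_zpowers, map_subtype_commutator, ← MonoidHom.range_eq_map, range_subtype]
  exact hK.symm

theorem powers_aux (hG : Cfsg.IsRegularPGroup p G) (n : ℕ) : ∀ (m : ℕ) (a b : G),
    Nat.card (closure ({a, b} : Set G)) ≤ m →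
      (a ^ p ^ n = 1 → b ^ p ^ n = 1 → (a * b) ^ p ^ n = 1) ∧
      (a ^ p ^ n = b ^ p ^ n → (a * b⁻¹) ^ p ^ n = 1) := by
  intro m
  induction m using Nat.strong_induction_on with
  | _ m ih =>
    intro a b hm
    set H := closure ({a, b} : Set G) with hH
    have ha : a ∈ H := subset_closure (by simp)
    have hb : b ∈ H := subset_closure (by simp)
    by_cases hc : IsCyclic H
    · have hab : Commute a b :=
        congrArg Subtype.val ((IsCyclic.isMulCommutative (α := H)).is_comm.comm ⟨a, ha⟩ ⟨b, hb⟩)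
      exact ⟨fun h1 h2 => by rw [hab.mul_pow, h1, h2, one_mul],
        fun h => by rw [hab.inv_right.mul_pow, inv_pow, h, mul_inv_cancel]⟩
    -- pairs inside a proper subgroup
    have sub : ∀ (K : Subgroup G), K < H → ∀ u ∈ K, ∀ v ∈ K,
        (u ^ p ^ n = 1 → v ^ p ^ n = 1 → (u * v) ^ p ^ n = 1) ∧
          (u ^ p ^ n = v ^ p ^ n → (u * v⁻¹) ^ p ^ n = 1) := by
      intro K hK u hu v hv
      have hlt : Nat.card K < Nat.card H := lt_of_le_of_ne (card_le_of_le hK.le)
        fun he => hK.ne (eq_of_le_of_card_ge hK.le he.ge)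
      exact ih _ (lt_of_lt_of_le hlt hm) u v (card_le_of_le ((closure_le K).mpr (by rintro z (rfl | rfl) <;> assumption)))
    -- the derived subgroup is killed as soon as the commutator of the generators is
    have hDlt : ⁅H, H⁆ < H := lt_of_le_of_lt le_sup_right (zpowers_sup_commutator_lt hG.1 ha hc)
    have hkill : ⁅a, b⁆ ^ p ^ n = 1 → ∀ c ∈ Cfsg.powerClosure p n ⁅H, H⁆, c = 1 := by
      intro hab
      let S : Subgroup G :=
        { carrier := {x | x ∈ ⁅H, H⁆ ∧ x ^ p ^ n = 1}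
          one_mem' := ⟨one_mem _, one_pow _⟩
          mul_mem' := fun {x y} hx hy => ⟨mul_mem hx.1 hy.1, (sub _ hDlt x hx.1 y hy.1).1 hx.2 hy.2⟩
          inv_mem' := fun {x} hx => ⟨inv_mem hx.1, by rw [inv_pow, hx.2, inv_one]⟩ }
      have hle : ⁅H, H⁆ ≤ S := commutator_closure_le (fun h hh s hs => ⟨by
        have := commutator_mem_commutator hh (commutator_le_self H hs.1)
        rw [show h * s * h⁻¹ = ⁅h, s⁆ * s by simp [commutatorElement_def]]
        exact mul_mem this hs.1, by rw [conj_pow, hs.2, mul_one, mul_inv_cancel]⟩)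
        ⟨commutator_mem_commutator ha hb, hab⟩
      intro c hc
      refine mem_bot.mp ((?_ : Cfsg.powerClosure p n ⁅H, H⁆ ≤ ⊥) hc)
      exact (closure_le _).mpr (by rintro _ ⟨x, hx, rfl⟩; exact mem_bot.mpr (hle hx).2)
    constructor
    · intro h1 h2
      have hconj : a * b * a⁻¹ ∈ zpowers b ⊔ ⁅H, H⁆ := by
        rw [show a * b * a⁻¹ = ⁅a, b⁆ * b by simp [commutatorElement_def]]
        exact mul_mem (mem_sup_right (commutator_mem_commutator ha hb)) (mem_sup_left (mem_zpowers b))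
      have hcomm : ⁅a, b⁆ ^ p ^ n = 1 := by
        rw [show ⁅a, b⁆ = a * b * a⁻¹ * b⁻¹ from rfl]
        exact (sub _ (zpowers_sup_commutator_lt hG.1 hb hc) _ hconj _ (inv_mem (mem_sup_left (mem_zpowers b)))).1
          (by rw [conj_pow, h2, mul_one, mul_inv_cancel]) (by rw [inv_pow, h2, inv_one])
      obtain ⟨c, hc', he⟩ := hG.2 a b n
      rw [he, h1, h2, one_mul, one_mul]
      exact hkill hcomm c hc'
    · intro h
      have hconj : b * a * b⁻¹ ∈ zpowers a ⊔ ⁅H, H⁆ := by
        rw [show b * a * b⁻¹ = ⁅b, a⁆ * a by simp [commutatorElement_def]]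
        exact mul_mem (mem_sup_right (commutator_mem_commutator hb ha)) (mem_sup_left (mem_zpowers a))
      have hcomm : ⁅a, b⁆ ^ p ^ n = 1 := by
        have h1 : ⁅b, a⁆ ^ p ^ n = 1 := by
          rw [show ⁅b, a⁆ = b * a * b⁻¹ * a⁻¹ from rfl]
          refine (sub _ (zpowers_sup_commutator_lt hG.1 ha hc) _ hconj _ (mem_sup_left (mem_zpowers a))).2 ?_
          rw [conj_pow, h, mul_inv_eq_iff_eq_mul]
          exact ((Commute.refl b).pow_right _).eq
        rw [← commutatorElement_inv, inv_pow, h1, inv_one]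
      obtain ⟨c, hc', he⟩ := hG.2 a b⁻¹ n
      have hle : closure ({a, b⁻¹} : Set G) ≤ H := (closure_le H).mpr (by
        rintro z (rfl | rfl)
        · exact ha
        · exact inv_mem hb)
      rw [he, inv_pow, h, mul_inv_cancel, one_mul]
      exact hkill hcomm c (PGroup.powerClosure_mono n (commutator_mono hle hle) hc')

/-- The elements killed by `p ^ n` are closed under products. -/
theorem mul_pow_eq_one (hG : Cfsg.IsRegularPGroup p G) (n : ℕ) {a b : G} (ha : a ^ p ^ n = 1)
    (hb : b ^ p ^ n = 1) : (a * b) ^ p ^ n = 1 :=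
  (powers_aux hG n _ a b le_rfl).1 ha hb

/-- The subgroup of the elements killed by `p ^ n`. -/
def torsion (hG : Cfsg.IsRegularPGroup p G) (n : ℕ) : Subgroup G where
  carrier := {x | x ^ p ^ n = 1}
  one_mem' := one_pow _
  mul_mem' := mul_pow_eq_one hG n
  inv_mem' := fun {x} hx => by rw [Set.mem_setOf_eq] at hx ⊢; rw [inv_pow, hx, inv_one]

theorem pow_eq_iff (hG : Cfsg.IsRegularPGroup p G) (a b : G) (n : ℕ) :
    a ^ p ^ n = b ^ p ^ n ↔ (a * b⁻¹) ^ p ^ n = 1 := by
  refine ⟨(powers_aux hG n _ a b le_rfl).2, fun h => ?_⟩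
  set x := a * b⁻¹ with hx
  obtain ⟨c, hc, he⟩ := hG.2 x b n
  rw [show x * b = a by rw [hx]; group, h, one_mul] at he
  have hcomm : ⁅x, b⁆ ∈ torsion hG n := by
    rw [show ⁅x, b⁆ = x * (b * x⁻¹ * b⁻¹) by simp [commutatorElement_def, mul_assoc]]
    exact mul_pow_eq_one hG n h (by rw [conj_pow, inv_pow, h, inv_one, mul_one, mul_inv_cancel])
  have hle := commutator_closure_le (S := torsion hG n) (a := x) (b := b) (fun g _ s (hs : s ^ p ^ n = 1) =>
    (show (g * s * g⁻¹) ^ p ^ n = 1 by rw [conj_pow, hs, mul_one, mul_inv_cancel])) hcomm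
  have hbot : Cfsg.powerClosure p n ⁅closure ({x, b} : Set G), closure ({x, b} : Set G)⁆ ≤ ⊥ :=
    (closure_le _).mpr (by rintro _ ⟨y, hy, rfl⟩; exact mem_bot.mpr (hle hy))
  rw [he, mem_bot.mp (hbot hc), mul_one]

end Cfsg.Agent.RegularP
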